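import Cfsg.Agent.Lib.Helper68.MG.Defs

/-!
# S3620 (Marggraf), primitive case: the extension lemma E (helper39, for helper68's farm MG)
-/

set_option autoImplicit false

namespace Cfsg.Agent.Lib.Helper39.MG

open Cfsg.Agent.Lib.Helper68.MG

universe u
variable {Ω : Type u}

theorem E_exists_g [Finite Ω] (G : Subgroup (Equiv.Perm Ω)) (hprim : Prim G) (F : Set Ω)
    (hF : F.Nonempty) (h2 : 2 ≤ Fᶜ.ncard) :
    ∃ g ∈ G, g '' Fᶜ ≠ Fᶜ ∧ ¬ Disjoint (g '' Fᶜ) Fᶜ := by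
  by_contra hcon
  push Not at hcon
  rcases hprim.2 Fᶜ (fun g hg => by
      by_cases h : g '' Fᶜ = Fᶜ
      · exact Or.inl h
      · exact Or.inr (hcon g hg h)) with h | h
  · have h1 : Fᶜ.ncard ≤ 1 := (Set.ncard_le_one (Set.toFinite _)).mpr (fun a ha b hb => h ha hb)
    omega
  · obtain ⟨f, hf⟩ := hF
    have h1 : f ∈ Fᶜ := h ▸ Set.mem_univ f
    exact h1 hf

theorem E_core [Finite Ω] (G : Subgroup (Equiv.Perm Ω)) (F : Set Ω) (hJ : Jor G F)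
    (g : Equiv.Perm Ω) (hg : g ∈ G) (hne : g '' Fᶜ ≠ Fᶜ) (hnd : ¬ Disjoint (g '' Fᶜ) Fᶜ)
    (hmin : ∀ μ ∈ G, μ '' Fᶜ ≠ Fᶜ → ¬ Disjoint (μ '' Fᶜ) Fᶜ →
      (g '' Fᶜ \ Fᶜ).ncard ≤ (μ '' Fᶜ \ Fᶜ).ncard) :
    Ext G F (g '' Fᶜ \ Fᶜ) := by
  classical
  have hcard : ∀ (μ : Equiv.Perm Ω) (A : Set Ω), (μ '' A).ncard = A.ncard :=
    fun μ A => Set.ncard_image_of_injective A μ.injective
  obtain ⟨z, hzg, hzL⟩ := Set.not_disjoint_iff.mp hnd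
  obtain ⟨z', hz'L, hz'⟩ := hzg
  have hBF : g '' Fᶜ \ Fᶜ ⊆ F := fun x hx => not_not.mp hx.2
  have hlt : (g '' Fᶜ \ Fᶜ).ncard < Fᶜ.ncard := by
    rw [← hcard g Fᶜ]
    apply Set.ncard_lt_ncard _ (Set.toFinite _)
    refine ⟨Set.sdiff_subset, fun hsub => ?_⟩
    exact (hsub ⟨z', hz'L, hz'⟩).2 hzL
  have hBne : (g '' Fᶜ \ Fᶜ).Nonempty := by
    by_contra hemp
    rw [Set.not_nonempty_iff_eq_empty, Set.sdiff_eq_empty] at hemp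
    exact hne (Set.eq_of_subset_of_ncard_le hemp (by rw [hcard]) (Set.toFinite _))
  -- moving every point outside `F \ B` to `z`
  have hmove : ∀ x, x ∉ F \ (g '' Fᶜ \ Fᶜ) → ∃ a ∈ Fx G (F \ (g '' Fᶜ \ Fᶜ)), a x = z := by
    intro x hx
    by_cases hxF : x ∈ F
    · have hxB : x ∈ g '' Fᶜ \ Fᶜ := by
        by_contra hxB
        exact hx ⟨hxF, hxB⟩
      obtain ⟨x', hx'L, rfl⟩ := hxB.1
      obtain ⟨h, hh, hhx⟩ := hJ x' hx'L z' hz'L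
      refine ⟨g * h * g⁻¹, ⟨mul_mem (mul_mem hg hh.1) (inv_mem hg), fun f hf => ?_⟩, ?_⟩
      · have hgf : g⁻¹ f ∈ F := by
          by_contra hgf
          apply hf.2
          refine ⟨⟨g⁻¹ f, hgf, by simp⟩, fun hfL => hfL hf.1⟩
        rw [Equiv.Perm.mul_apply, Equiv.Perm.mul_apply, hh.2 _ hgf]
        simp
      · rw [Equiv.Perm.mul_apply, Equiv.Perm.mul_apply]
        simp [hhx, hz']
    · obtain ⟨h, hh, hhx⟩ := hJ x hxF z hzL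
      exact ⟨h, ⟨hh.1, fun f hf => hh.2 f hf.1⟩, hhx⟩
  refine ⟨hBF, hBne, ?_, ?_, hlt⟩
  · intro x hx y hy
    obtain ⟨a, ha, hax⟩ := hmove x hx
    obtain ⟨b, hb, hby⟩ := hmove y hy
    refine ⟨b⁻¹ * a, mul_mem (inv_mem hb) ha, ?_⟩
    rw [Equiv.Perm.mul_apply, hax, Equiv.Perm.inv_eq_iff_eq, hby]
  · intro μ hμ
    have hμinv : ∀ x, x ∉ F \ (g '' Fᶜ \ Fᶜ) → μ x ∉ F \ (g '' Fᶜ \ Fᶜ) := by
      intro x hx hμx
      have h1 := hμ.2 _ hμx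
      have h2 : μ x = x := μ.injective h1
      exact hx (h2 ▸ hμx)
    have hsplit : ∀ x, x ∉ F \ (g '' Fᶜ \ Fᶜ) → x ∈ Fᶜ ∨ x ∈ g '' Fᶜ \ Fᶜ := by
      intro x hx
      by_cases hxF : x ∈ F
      · right
        by_contra hxB
        exact hx ⟨hxF, hxB⟩
      · exact Or.inl hxF
    have hL : ∀ x ∈ Fᶜ, μ x ∈ Fᶜ ∨ μ x ∈ g '' Fᶜ \ Fᶜ :=
      fun x hx => hsplit _ (hμinv x (fun h => hx h.1))
    have hB : ∀ x ∈ g '' Fᶜ \ Fᶜ, μ x ∈ Fᶜ ∨ μ x ∈ g '' Fᶜ \ Fᶜ :=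
      fun x hx => hsplit _ (hμinv x (fun h => h.2 hx))
    by_cases hμL : μ '' Fᶜ = Fᶜ
    · left
      apply Set.eq_of_subset_of_ncard_le _ (by rw [hcard]) (Set.toFinite _)
      rintro _ ⟨b, hb, rfl⟩
      rcases hB b hb with h | h
      · exfalso
        rw [← hμL] at h
        obtain ⟨x, hx, hxb⟩ := h
        have : x = b := μ.injective hxb
        exact hb.2 (this ▸ hx)
      · exact h
    · right
      have hnd' : ¬ Disjoint (μ '' Fᶜ) Fᶜ := by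
        intro hd
        have h1 := Set.ncard_union_eq hd (Set.toFinite _) (Set.toFinite _)
        have h2 : μ '' Fᶜ ∪ Fᶜ ⊆ Fᶜ ∪ (g '' Fᶜ \ Fᶜ) := by
          rintro x (⟨y, hy, rfl⟩ | hx)
          · exact hL y hy
          · exact Or.inl hx
        have h3 := Set.ncard_le_ncard h2 (Set.toFinite _)
        have h4 := Set.ncard_union_le Fᶜ (g '' Fᶜ \ Fᶜ)
        rw [hcard] at h1
        omega
      have h5 := hmin μ hμ.1 hμL hnd'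
      have h6 : μ '' Fᶜ \ Fᶜ ⊆ g '' Fᶜ \ Fᶜ := by
        rintro _ ⟨⟨y, hy, rfl⟩, hx2⟩
        exact (hL y hy).resolve_left hx2
      have h7 : μ '' Fᶜ \ Fᶜ = g '' Fᶜ \ Fᶜ := Set.eq_of_subset_of_ncard_le h6 h5 (Set.toFinite _)
      rw [Set.disjoint_left]
      rintro _ ⟨b, hb, rfl⟩ hμb
      rw [← h7] at hμb
      obtain ⟨x, hx, hxb⟩ := hμb.1
      have : x = b := μ.injective hxb
      exact hb.2 (this ▸ hx)

/-- **Extension lemma E.** -/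
theorem E_ext [Finite Ω] (G : Subgroup (Equiv.Perm Ω)) (hprim : Prim G) (F : Set Ω)
    (hF : F.Nonempty) (h2 : 2 ≤ Fᶜ.ncard) (hJ : Jor G F) : ∃ B : Set Ω, Ext G F B := by
  classical
  have hex : ∃ e : ℕ, ∃ g ∈ G, g '' Fᶜ ≠ Fᶜ ∧ ¬ Disjoint (g '' Fᶜ) Fᶜ ∧ (g '' Fᶜ \ Fᶜ).ncard = e := by
    obtain ⟨g, hg, h1, h3⟩ := E_exists_g G hprim F hF h2
    exact ⟨_, g, hg, h1, h3, rfl⟩
  obtain ⟨g, hg, h1, h3, h4⟩ := Nat.find_spec hex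
  refine ⟨g '' Fᶜ \ Fᶜ, E_core G F hJ g hg h1 h3 ?_⟩
  intro μ hμ h5 h6
  rw [h4]
  exact Nat.find_min' hex ⟨μ, hμ, h5, h6, rfl⟩

end Cfsg.Agent.Lib.Helper39.MG
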